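import Cfsg.Agent.DL.PP.Levi

/-!
# Lusztig induction from an `F`-stable Levi subgroup (helper2)

`L = D.cen (Zl D lam)` is `F`-stable, the parabolic subgroup `Q L` need not be.

* `gen_RL` : `RL` maps generalized characters to generalized characters;
* `RL_R` : transitivity;
* `gen_sum`, `gen_lin` : the consequences for uniform functions.
-/

set_option autoImplicit false
set_option linter.unusedSectionVars false

namespace Cfsg.Agent.KZ.Levi

open Cfsg Cfsg.Agent.DL Cfsg.Agent.DL.CF Cfsg.Agent.DL.Uni Cfsg.Agent.DL.Lef Cfsg.Agent.DL.Asm Cfsg.Agent.DL.PP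
  Cfsg.Agent.Nodes.Reps Cfsg.Agent.Nodes.BNOf Cfsg.Agent.Nodes Cfsg.Agent.Characters
  Cfsg.Agent.ChevalleyStructure.CoxeterGeom Cfsg.Agent.Tits.Roots Matrix
open scoped ComplexConjugate

section Abs

variable {Γ : Type} [Group Γ]

theorem gen_of_isInd {H K : Subgroup Γ} [Fintype H] [Fintype K] {N : ℕ → Γ → Γ → ℂ} {R : (Γ → ℂ) →ₗ[ℂ] (Γ → ℂ)}
    (h : IsInd H K N R) {f : Γ → ℂ} (hf : IsGeneralizedCharacter K (res K f)) :
    IsGeneralizedCharacter H (res H (R f)) := by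
  obtain ⟨a, b, ha, hb, e⟩ := hf
  rw [h.res_eq, cmp_eq_comp]
  refine Spectral.isGeneralizedCharacter ⟨fun m hm g x => ?_, fun χ hχ => ?_⟩
  · simp only [Lef.comp_apply]
    congr 1
    refine Finset.sum_congr rfl fun t _ => ?_
    have := h.spec.cls m hm (g, t) (x, 1)
    simp only [Prod.mk_mul_mk, Prod.inv_mk, one_mul, inv_one, mul_one] at this
    rw [this]
  · simp only [classInner_comp]
    refine h.spec.expZ_gen ⟨_, _, Core.isCharacter_mul (Core.isCharacter_comp (MonoidHom.fst H K) hχ)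
      (Core.isCharacter_comp (MonoidHom.snd H K) (Core.isCharacter_conj ha)),
      Core.isCharacter_mul (Core.isCharacter_comp (MonoidHom.fst H K) hχ)
      (Core.isCharacter_comp (MonoidHom.snd H K) (Core.isCharacter_conj hb)), ?_⟩
    funext x
    have h1 : f x.2 = a x.2 - b x.2 := congrFun e x.2
    simp [h1, mul_sub]

variable {F : MulAut Γ} {G L Q U : Subgroup Γ} (hfin : ∀ n, 0 < n → {y | (F ^ n) y = y}.Finite) (hL : L ≤ G)
  (hF : ∀ l ∈ L, F l ∈ L) (hLang : Lang F L)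
  (hn : ∀ l ∈ L, ∀ v ∈ Q, l * v * l⁻¹ ∈ Q) (hd : ∀ x ∈ L, x ∈ Q → x = 1)
  (hU : ∀ z, z ∈ U ↔ ∃ v ∈ Q, ∃ u ∈ U ⊓ L, z = v * u)
include hfin hL hF hLang hn hd hU

theorem cntF_trans [Fintype (GF F L)] {m : ℕ} (hm : 0 < m) (hQ : ∀ v ∈ Q, (F ^ m) v ∈ Q) {g t : Γ}
    (hg : F g = g) (ht : t ∈ GF F L) :
    cntF F G U g t m = (Nat.card (GF F L) : ℂ)⁻¹ * ∑ l : GF F L, cntF F G Q g l m * cntF F L ↑(U ⊓ L) l t m := by
  have hLF : ∀ x, x ∈ GF F L ↔ x ∈ L ∧ F x = x := fun _ => Iff.rfl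
  generalize GF F L = LF at *
  obtain rfl : LF = fixIn F.toMonoidHom L := Subgroup.ext hLF
  have f1 : Finite (fixIn F.toMonoidHom L) := inferInstance
  have fin : ∀ (H : Subgroup Γ) (V : Set Γ) (g : Γ) {l : Γ}, F l = l →
      (pts F.toMonoidHom (F ^ m).toMonoidHom H V g l).Finite :=
    fun H V g l hl => finite_ptsF hfin hl (isOfFinOrder_of_fix hfin hl) hm
  obtain ⟨e⟩ := nonempty_equiv_trans (F := F.toMonoidHom) (σ := (F ^ m).toMonoidHom) (V := Q) (U := ↑(U ⊓ L)) (VU := U)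
    hL (fun u hu => hu.2) hU hn
    (fun v hv v' hv' l hl l' hl' e => lev_uniq hd hl hl' (x := v * l) (by simpa using hv) (by rw [e]; simpa using hv'))
    hLang hF (fun x hx => pow_apply_mem (S := (L : Set Γ)) hF m hx) hQ (fun x => Mk.pow_comm_apply F m x) (g := g) hg ht
  have h1 : cnt F.toMonoidHom (F ^ m).toMonoidHom G U g t * Nat.card (fixIn F.toMonoidHom L) =
      ∑ l : fixIn F.toMonoidHom L, cnt F.toMonoidHom (F ^ m).toMonoidHom G Q g l *
        cnt F.toMonoidHom (F ^ m).toMonoidHom L ↑(U ⊓ L) l t := by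
    have : ∀ l : fixIn F.toMonoidHom L, Finite (pts F.toMonoidHom (F ^ m).toMonoidHom G Q g l) :=
      fun l => (fin _ _ _ l.2.2).to_subtype
    have : ∀ l : fixIn F.toMonoidHom L, Finite (pts F.toMonoidHom (F ^ m).toMonoidHom L ↑(U ⊓ L) l t) :=
      fun l => (fin _ _ _ ht.2).to_subtype
    unfold CF.cnt
    rw [← Nat.card_prod, Nat.card_congr e, Nat.card_sigma]
    exact Finset.sum_congr rfl fun l _ => Nat.card_prod _ _
  rw [eq_inv_mul_iff_mul_eq₀ (card_ne_zero _), mul_comm, cntF, ← Nat.cast_mul, h1, Nat.cast_sum]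
  exact Finset.sum_congr rfl fun l _ => by rw [Nat.cast_mul, cntF, cntF]

theorem lam_trans [Fintype (GF F L)] {d : ℕ} (hd0 : 0 < d) (hQ : ∀ v ∈ Q, (F ^ d) v ∈ Q) {g t : Γ}
    (hg : F g = g) (ht : t ∈ GF F L) (hE : ∀ l ∈ GF F L, ExpC fun m => cntF F G Q g l (d * m))
    (hE' : ∀ l ∈ GF F L, ExpC fun m => cntF F L ↑(U ⊓ L) l t (d * m)) :
    lam F G U g t = (Nat.card (GF F L) : ℂ)⁻¹ * ∑ l : GF F L, lam F G Q g l * lam F L ↑(U ⊓ L) l t := by
  have h1 : ∀ m, 0 < m → (Nat.card (GF F L) : ℂ)⁻¹ *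
      ∑ l : GF F L, cntF F G Q g l (d * m) * cntF F L ↑(U ⊓ L) l t (d * m) = cntF F G U g t (d * m) := fun m hm => by
    rw [cntF_trans hfin hL hF hLang hn hd hU (mul_pos hd0 hm)
      (fun v hv => by rw [pow_mul]; exact pow_apply_mem (S := (Q : Set Γ)) hQ m hv) hg ht]
  have h2 : ∀ l : GF F L, ExpC fun m => cntF F G Q g l (d * m) * cntF F L ↑(U ⊓ L) l t (d * m) :=
    fun l => (hE l l.2).mul (hE' l l.2)
  have h3 := ExpC.sum Finset.univ fun l _ => h2 l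
  rw [lam_eq hd0 ((h3.smul _).congr h1), ← lef_congr h1, lef_smul h3, lef_sum _ fun l _ => h2 l]
  congr 1
  exact Finset.sum_congr rfl fun l _ => by
    rw [lef_mul (hE l l.2) (hE' l l.2), lam_eq hd0 (hE l l.2), lam_eq hd0 (hE' l l.2)]

theorem RV_trans [Fintype (GF F L)] {T : Subgroup Γ} (hT : T ≤ L) {d : ℕ} (hd0 : 0 < d)
    (hQ : ∀ v ∈ Q, (F ^ d) v ∈ Q) {g : Γ} (hg : F g = g) (hE : ∀ l ∈ GF F L, ExpC fun m => cntF F G Q g l (d * m))
    (hE' : ∀ l ∈ GF F L, ∀ t ∈ T ⊓ GF F L, ExpC fun m => cntF F L ↑(U ⊓ L) l t (d * m)) (f : Γ → ℂ) :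
    RV F G T U f g = CF.ind F G (GF F L) Q (RV F L T (U ⊓ L) f) g := by
  have e : T ⊓ GF F G = T ⊓ GF F L :=
    Subgroup.ext fun t => ⟨fun h => ⟨h.1, hT h.1, h.2.2⟩, fun h => ⟨h.1, hL h.2.1, h.2.2⟩⟩
  have : Finite ↥(T ⊓ GF F L) := finite_inf T
  have := Fintype.ofFinite ↥(T ⊓ GF F L)
  rw [RV, e, ind_apply', Finset.sum_congr rfl fun t _ => by
    rw [lam_trans hfin hL hF hLang hn hd hU hd0 hQ hg t.2.2 hE fun l hl => hE' l hl t t.2]]
  simp only [ind_apply', Finset.mul_sum, Finset.sum_mul]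
  rw [Finset.sum_comm]
  exact Finset.sum_congr rfl fun l _ => Finset.sum_congr rfl fun t _ => by ring

end Abs

variable {p : ℕ} [Fact p.Prime] {k : Type} [Field k] [CharP k p] [IsAlgClosed k] {Y : Type} [Group Y] {N : Type}
  [Fintype N] [DecidableEq N] {ρ : Y →* GL N k} {F : MulAut Y} {G : Subgroup Y} {D : Datum p ρ F G}

/-- the group of a closed unipotent set of roots is constructible -/
theorem cg_uni {A : Set (D.I → ℤ)} (hA : D.Uni A) : Cn.CG k (Cn.rhoM ρ) (D.S A) := by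
  obtain ⟨f, hf⟩ := hA.pos
  obtain ⟨v, hv⟩ := exists_dominant D f
  obtain ⟨m, hm⟩ := Nodes.Reps.exists_rp D.cs D.nsys v
  have h1 := hA.act v⁻¹
  have h2 : D.act v '' (D.act v⁻¹ '' A) = A := by
    rw [Set.image_image]
    simp only [Datum.act, rep_apply_inv, Set.image_id']
  rw [← h2, ← D.cj_S hm h1.root]
  refine ((Cn.polyOn_rho D).cg_S ?_ h1.cl.btw).cj m
  rintro _ ⟨a, ha, rfl⟩
  have h3 := (hA.root a ha).act v⁻¹
  refine ⟨h3, nonneg_of_l (l := f.comp (rep D.cs D.h v).toAddMonoidHom) hv h3 ?_⟩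
  show 0 < f (rep D.cs D.h v _)
  rw [rep_apply_inv]
  exact hf a ha

variable {l : (D.I → ℤ) →+ ℤ} {lam : D.R → ℤ}

variable (D lam) in
/-- the Levi subgroup -/
abbrev Lc : Subgroup Y := D.cen (Zl D lam)

variable (D lam l) in
/-- Lusztig induction from the Levi subgroup -/
noncomputable abbrev RL : (Y → ℂ) →ₗ[ℂ] (Y → ℂ) := CF.ind F G (GF F (Lc D lam)) (D.S (Rad D l))

variable (D lam) in
/-- the Levi subgroup is `F`-stable -/
abbrev Stab : Prop := ∀ a ∈ D.Sz (Zl D lam), D.g a ∈ D.Sz (Zl D lam)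

/-- the datum of the Levi subgroup -/
noncomputable abbrev dL (hs : Stab D lam) : Datum p ρ F (Lc D lam) := D.sub Zl_sub hs rfl

theorem GF_le : GF F (Lc D lam) ≤ GF F G := fun _ hx => ⟨D.cen_le_G _ hx.1, hx.2⟩

theorem RL_congr {f f' : Y → ℂ} (e : ∀ x ∈ GF F (Lc D lam), f x = f' x) : RL D l lam f = RL D l lam f' := ind_congr e

theorem tori_sub (hs : Stab D lam) : tori (dL hs) = {T | T ∈ tori D ∧ T ≤ Lc D lam} := by
  ext T
  refine ⟨fun h => ⟨((D.tori_sub Zl_sub hs rfl).le h).1, (pair_Vof h).T_le⟩, fun h => ?_⟩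
  rw [dL, D.tori_sub]
  refine ⟨h.1, fun z hz => ?_⟩
  obtain ⟨y, hy, e, -⟩ := h.1
  rw [e, SetLike.mem_coe, mem_cj, ← D.centralizer_T]
  refine ⟨G.mul_mem (G.mul_mem (G.inv_mem hy) (D.T_le_G (Zl_sub hz))) hy, fun t ht => ?_⟩
  have h1 := D.cen_le_centralizer Zl_sub (h.2 (e ▸ conj_mem_cj.2 ht : y * t * y⁻¹ ∈ T)) z hz
  calc t * (y⁻¹ * z * y) = y⁻¹ * (y * t * y⁻¹ * z) * y := by group
    _ = y⁻¹ * z * y * t := by rw [← h1]; group

theorem inf_GF {T : Subgroup Y} (hT : T ≤ Lc D lam) : T ⊓ GF F (Lc D lam) = T ⊓ GF F G :=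
  Subgroup.ext fun _ => ⟨fun h => ⟨h.1, GF_le h.2⟩, fun h => ⟨h.1, hT h.1, h.2.2⟩⟩

variable (hl : ∀ b, D.wt b ⬝ᵥ lam = l b)
include hl

theorem isInd [Fintype (GF F G)] [Fintype (GF F (Lc D lam))] {d e : ℕ} (H : D.Split d e) :
    IsInd (GF F G) (GF F (Lc D lam)) (cn F G (D.S (Rad D l)) d) (RL D l lam) := by
  have h1 := (Gd.spectral_datum_prod Dw.boxDwork D H.e_pos H.frob (cg_uni (uni_Rad D l))
    (fun v hv => H.mem_S (fun _ h => h.1) hv) (H := GF F G) (L := GF F (Lc D lam)) le_rfl GF_le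
    fun x hx v hv => cen_norm hl hx.1 hv).congr
    (R' := fun m z => cn F G (D.S (Rad D l)) d m z.1 z.2) fun m _ => by
      funext z
      simp only [cn, CF.cntF_mul]
  refine ⟨h1, fun f g hg => ?_⟩
  rw [CF.ind_apply']
  congr 1
  exact Finset.sum_congr rfl fun t _ => by rw [CF.lam_eq H.d_pos (h1.expC (⟨g, hg⟩, t))]

/-- **(L1)** Lusztig induction maps generalized characters to generalized characters. -/
theorem gen_RL {f : Y → ℂ} (hf : IsGeneralizedCharacter (GF F (Lc D lam)) (res (GF F (Lc D lam)) f)) :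
    IsGeneralizedCharacter (GF F G) (res (GF F G) (RL D l lam f)) := by
  have := finite_GF D
  have := D.amb.finite_GF (Lc D lam)
  have := Fintype.ofFinite (GF F G)
  have := Fintype.ofFinite (GF F (Lc D lam))
  obtain ⟨d, e, H⟩ := D.exists_split'
  exact gen_of_isInd (isInd hl H) hf

/-- a Borel subgroup inside the parabolic subgroup -/
theorem exists_borel : ∃ m ∈ D.NN, ∀ z, z ∈ cj m D.U ↔ ∃ v ∈ D.S (Rad D l), ∃ u ∈ cj m D.U ⊓ Lc D lam, z = v * u := by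
  obtain ⟨w, hw⟩ := exists_dominant D l
  obtain ⟨m, hm⟩ := Nodes.Reps.exists_rp D.cs D.nsys w
  refine ⟨m, ⟨w, hm⟩, fun z => ?_⟩
  rw [D.cj_S hm fun _ h => h.1]
  have h1 := D.uni_pos.act w
  obtain ⟨f, hf⟩ := h1.pos
  constructor
  · intro hz
    obtain ⟨a, ha, c, hc, rfl⟩ := D.split h1.cl f l hf hz
    refine ⟨a, RGD.Sup_mono (S' := Rad D l) (fun x hx => ⟨h1.root x hx.1, hx.2⟩) ha, c,
      ⟨RGD.Sup_mono (fun x hx => hx.1) hc, D.S_le_cen _ (RGD.Sup_mono (fun x hx => (mem_Sz_Zl hl).2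
        ⟨h1.root x hx.1, le_antisymm hx.2 ?_⟩) hc)⟩, rfl⟩
    obtain ⟨b, hb, rfl⟩ := hx.1
    exact l_nonneg (l := l.comp (rep D.cs D.h w).toAddMonoidHom) hw hb.2
  · rintro ⟨v, hv, u, hu, rfl⟩
    refine mul_mem (RGD.Sup_mono (S' := D.act w '' RGD.Pos D.cs D.h) (fun x hx => ?_) hv) hu.1
    have h3 := hx.1.act w⁻¹
    refine ⟨_, ⟨h3, nonneg_of_l (l := l.comp (rep D.cs D.h w).toAddMonoidHom) hw h3 ?_⟩, rep_apply_inv _ _ _ _⟩
    show 0 < l (rep D.cs D.h w _)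
    rw [rep_apply_inv]
    exact hx.2

theorem exists_pair (hs : Stab D lam) {T : Subgroup Y} (hT : T ∈ tori (dL hs)) :
    ∃ V, Pair D T V ∧ ∀ z, z ∈ V ↔ ∃ v ∈ D.S (Rad D l), ∃ u ∈ V ⊓ Lc D lam, z = v * u := by
  obtain ⟨y, hy, e, h1⟩ := hT
  obtain ⟨m, hm, h2⟩ := exists_borel hl
  refine ⟨cj (y * m) D.U, ⟨y * m, mul_mem (D.cen_le_G _ hy) (D.NN_le_G hm), ?_, rfl, h1⟩, fun z => ?_⟩
  · rw [cj_mul, D.cj_T hm]
    exact e
  · rw [cj_mul, mem_cj, h2]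
    constructor
    · rintro ⟨v, hv, u, hu, e⟩
      refine ⟨y * v * y⁻¹, cen_norm hl hy hv, y * u * y⁻¹,
        ⟨conj_mem_cj.2 hu.1, (Lc D lam).mul_mem ((Lc D lam).mul_mem hy hu.2) ((Lc D lam).inv_mem hy)⟩, ?_⟩
      calc z = y * (y⁻¹ * z * y) * y⁻¹ := by group
        _ = _ := by rw [e]; group
    · rintro ⟨v, hv, u, hu, rfl⟩
      refine ⟨y⁻¹ * v * y⁻¹⁻¹, cen_norm hl (inv_mem hy) hv, y⁻¹ * u * y,
        ⟨mem_cj.1 hu.1, (Lc D lam).mul_mem ((Lc D lam).mul_mem ((Lc D lam).inv_mem hy) hu.2) hy⟩, by group⟩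

variable (hs : Stab D lam)

/-- **(L2)** transitivity -/
theorem RL_R {T : Subgroup Y} (hT : T ∈ tori (dL hs)) (f : Y → ℂ) :
    ∀ g ∈ GF F G, RL D l lam (R (dL hs) T f) g = R D T f g := by
  intro g hg
  have := finite_GF D
  have := finite_GF (dL hs)
  have := finite_inf_GF (dL hs) T
  have := Fintype.ofFinite (GF F G)
  have := Fintype.ofFinite (GF F (Lc D lam))
  have := Fintype.ofFinite ↥(T ⊓ GF F (Lc D lam))
  obtain ⟨V, hV, hU⟩ := exists_pair hl hs hT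
  have hP : Pair (dL hs) T (V ⊓ Lc D lam) := D.pair_sub Zl_sub hs rfl hV ((D.tori_sub Zl_sub hs rfl).le hT).2
  obtain ⟨d, hd, ⟨e, H⟩, h1⟩ := ((CF.ev_split D).and hP.exists_isInd).ex
  rw [R_eq' hV f g hg, RL_congr (R_eq' hP f)]
  exact (RV_trans (CF.fin_fix D.amb) (D.cen_le_G _) (fun _ => (dL hs).F_mem_G) (lang (dL hs)) (fun _ => cen_norm hl)
    (fun _ => cen_disj hl) hU hP.T_le hd (fun v hv => H.mem_S (fun _ h => h.1) hv) hg.2
    (fun x hx => ((isInd hl H).expI hg hx).1) (fun x hx t ht => (h1.expI hx ht).1) f).symm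

theorem RL_sum {ι : Type*} (s : Finset ι) (c : ι → ℂ) {T : ι → Subgroup Y} (hT : ∀ i ∈ s, T i ∈ tori (dL hs))
    (f : ι → Y → ℂ) : ∀ g ∈ GF F G,
      RL D l lam (∑ i ∈ s, c i • R (dL hs) (T i) (f i)) g = (∑ i ∈ s, c i • R D (T i) (f i)) g := by
  intro g hg
  rw [map_sum, Finset.sum_apply, Finset.sum_apply]
  exact Finset.sum_congr rfl fun i hi => by
    rw [map_smul, Pi.smul_apply, Pi.smul_apply, RL_R hl hs (hT i hi) _ g hg]

/-- **(L3)** a uniform generalized character of the Levi subgroup gives one of the group -/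
theorem gen_sum {ι : Type*} (s : Finset ι) (c : ι → ℂ) {T : ι → Subgroup Y} (hT : ∀ i ∈ s, T i ∈ tori (dL hs))
    (f : ι → Y → ℂ) (h : IsGeneralizedCharacter (GF F (Lc D lam))
      (res (GF F (Lc D lam)) (∑ i ∈ s, c i • R (dL hs) (T i) (f i)))) :
    IsGeneralizedCharacter (GF F G) (res (GF F G) (∑ i ∈ s, c i • R D (T i) (f i))) := by
  convert gen_RL hl h using 1
  funext g
  exact (RL_sum hl hs s c hT f g g.2).symm

theorem RL_usum (φ : Subgroup Y → Y → ℂ) : ∀ g ∈ GF F G,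
    RL D l lam (usum (GF F (Lc D lam)) (tori (dL hs)) (R (dL hs)) φ) g =
      usum (GF F (Lc D lam)) {T | T ∈ tori D ∧ T ≤ Lc D lam} (R D) φ g := by
  intro g hg
  have S := sys' (dL hs)
  rw [S.usum_eq, RL_sum hl hs _ _ (fun T hT => S.mem_tori.1 hT) φ g hg, ← tori_sub hs, usum,
    finsum_mem_eq_finite_toFinset_sum _ S.finA]
  rfl

include hs in
/-- a `p`-constant function of the Levi subgroup -/
theorem RL_pconst {μ : Y → ℂ} (hμ : PConst p (GF F (Lc D lam)) μ) : ∀ g ∈ GF F G,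
    RL D l lam μ g = usum (GF F (Lc D lam)) {T | T ∈ tori D ∧ T ≤ Lc D lam} (R D) (fun _ => μ) g := by
  intro g hg
  rw [RL_congr ((sys' (dL hs)).pconst_eq_usum hμ), RL_usum hl hs _ g hg]

include hs in
theorem gen_pconst {μ : Y → ℂ} (hμ : PConst p (GF F (Lc D lam)) μ)
    (h : IsGeneralizedCharacter (GF F (Lc D lam)) (res (GF F (Lc D lam)) μ)) :
    IsGeneralizedCharacter (GF F G)
      (res (GF F G) (usum (GF F (Lc D lam)) {T | T ∈ tori D ∧ T ≤ Lc D lam} (R D) fun _ => μ)) := by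
  convert gen_RL hl h using 1
  funext g
  exact (RL_pconst hl hs hμ g g.2).symm

omit hl in
theorem pconst_of_lin {H : Subgroup Y} {μ : Y → ℂ} (hμ : IsLin H μ) (h1 : ∀ u ∈ H, IsUni p u → μ u = 1) :
    PConst p H μ where
  cls g hg h hh := by
    rw [hμ.mul _ (mul_mem hh hg) _ (inv_mem hh), hμ.mul _ hh _ hg, mul_right_comm, hμ.mul_inv hh, one_mul]
  jordan s hs u hu _ h2 _ := by rw [hμ.mul s hs u hu, h1 u hu h2, mul_one]

omit hl in
theorem lin_uni {H : Subgroup Y} {μ : Y → ℂ} (hμ : IsLin H μ) {n : ℕ} (hn : ¬ p ∣ n) (h : ∀ x ∈ H, μ x ^ n = 1) :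
    ∀ u ∈ H, IsUni p u → μ u = 1 := by
  rintro u hu ⟨j, hj⟩
  have h1 : ∀ i : ℕ, μ (u ^ i) = μ u ^ i := fun i => by
    induction i with
    | zero => rw [pow_zero, pow_zero, hμ.one]
    | succ i ih => rw [pow_succ, hμ.mul _ (pow_mem hu i) _ hu, ih, pow_succ]
  have h2 : μ u ^ p ^ j = 1 := by rw [← h1, ← hj, pow_orderOf_eq_one, hμ.one]
  have h3 := Nat.Coprime.eq_one_of_dvd ?_ (orderOf_dvd_of_pow_eq_one (h u hu))
  · exact orderOf_eq_one_iff.1 h3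
  · exact Nat.Coprime.coprime_dvd_left (orderOf_dvd_of_pow_eq_one h2)
      (Nat.Coprime.pow_left j ((Nat.Prime.coprime_iff_not_dvd Fact.out).2 hn))

omit hl in
theorem gen_of_lin {H : Subgroup Y} [Finite H] {μ : Y → ℂ} (hμ : IsLin H μ) : IsGeneralizedCharacter H (res H μ) :=
  gen_of_char (Linear.isCharacter_hom hμ.hom)

include hs in
/-- **(L3)** for a linear character that is trivial on the `p`-elements:
`usum H A R φ = ∑ᶠ T ∈ A, (|T ⊓ H| / |H|) • R T (φ T)` -/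
theorem gen_lin {μ : Y → ℂ} (hμ : IsLin (GF F (Lc D lam)) μ) (h1 : ∀ u ∈ GF F (Lc D lam), IsUni p u → μ u = 1) :
    IsGeneralizedCharacter (GF F G)
      (res (GF F G) (usum (GF F (Lc D lam)) {T | T ∈ tori D ∧ T ≤ Lc D lam} (R D) fun _ => μ)) :=
  have := D.amb.finite_GF (Lc D lam)
  gen_pconst hl hs (pconst_of_lin hμ h1) (gen_of_lin hμ)

end Cfsg.Agent.KZ.Levi
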